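import Mathlib
import Cfsg.Prelude.Def_ParabolicCharacters

set_option autoImplicit false

/-!
# Counting lemmas for Steinberg's theorem on the number of unipotent elements (helper1)

* `h1_sum_fpc`: for a conjugation-invariant set `𝒱` of a finite group `H` and a subgroup `Q`,
  `∑_{v ∈ 𝒱} 1_Q^H (v) = [H : Q] · |𝒱 ∩ Q|`.
* `h1_mobius`: Möbius inversion on the Boolean lattice of subsets of a finite set.
-/

namespace Cfsg.Agent.UnipC

open MulAction

theorem h1_smul_mk_eq_iff {H : Type*} [Group H] (Q : Subgroup H) (v x : H) :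
    v • (x : H ⧸ Q) = (x : H ⧸ Q) ↔ x⁻¹ * v * x ∈ Q := by
  rw [MulAction.Quotient.smul_mk, QuotientGroup.eq, smul_eq_mul]
  have h1 : (v * x)⁻¹ * x = (x⁻¹ * v * x)⁻¹ := by group
  rw [h1, inv_mem_iff]

/-- `∑_{v ∈ 𝒱} 1_Q^H(v) = [H:Q] · |𝒱 ∩ Q|` for a conjugation-invariant finite set `𝒱`. -/
theorem h1_sum_fpc {H : Type*} [Group H] [Finite H] (Q : Subgroup H) (𝒱 : Finset H)
    [DecidablePred (· ∈ Q)]
    (hinv : ∀ v ∈ 𝒱, ∀ x : H, x * v * x⁻¹ ∈ 𝒱) :
    ∑ v ∈ 𝒱, Cfsg.fixedPointCharacter Q v = (Q.index : ℂ) * ((𝒱.filter (· ∈ Q)).card : ℂ) := by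
  classical
  let _ : Fintype (H ⧸ Q) := Fintype.ofFinite _
  unfold Cfsg.fixedPointCharacter
  have h1 : ∀ v : H, (Nat.card (fixedBy (H ⧸ Q) v) : ℂ) =
      ∑ c : H ⧸ Q, if v • c = c then (1 : ℂ) else 0 := by
    intro v
    rw [Finset.sum_boole, Nat.card_eq_fintype_card, Fintype.card_subtype]
    rfl
  rw [Finset.sum_congr rfl (fun v _ => h1 v), Finset.sum_comm]
  have h2 : ∀ c : H ⧸ Q, (∑ v ∈ 𝒱, if v • c = c then (1 : ℂ) else 0) =
      ((𝒱.filter (· ∈ Q)).card : ℂ) := by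
    intro c
    induction c using QuotientGroup.induction_on with
    | H x =>
      rw [Finset.sum_boole]
      congr 1
      apply Finset.card_nbij' (fun v => x⁻¹ * v * x) (fun v => x * v * x⁻¹)
      · intro v hv
        rw [Finset.mem_coe, Finset.mem_filter] at hv ⊢
        refine ⟨?_, (h1_smul_mk_eq_iff Q v x).mp hv.2⟩
        have := hinv v hv.1 x⁻¹
        rwa [inv_inv] at this
      · intro v hv
        rw [Finset.mem_coe, Finset.mem_filter] at hv ⊢
        refine ⟨hinv v hv.1 x, ?_⟩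
        rw [h1_smul_mk_eq_iff]
        have : x⁻¹ * (x * v * x⁻¹) * x = v := by group
        rw [this]
        exact hv.2
      · intro v _
        change x * (x⁻¹ * v * x) * x⁻¹ = v
        group
      · intro v _
        change x⁻¹ * (x * v * x⁻¹) * x = v
        group
  rw [Finset.sum_congr rfl (fun c _ => h2 c), Finset.sum_const, Finset.card_univ, nsmul_eq_mul,
    Subgroup.index, Nat.card_eq_fintype_card]

variable {ι : Type*} [DecidableEq ι]

theorem h1_interval_sum (L I : Finset ι) (hL : L ⊆ I) :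
    ∑ K ∈ I.powerset.filter (fun K => L ⊆ K), (-1 : ℂ) ^ (I.card - K.card) =
      if L = I then 1 else 0 := by
  have h1 : ∑ K ∈ I.powerset.filter (fun K => L ⊆ K), (-1 : ℂ) ^ (I.card - K.card) =
      ∑ M ∈ (I \ L).powerset, (-1 : ℂ) ^ M.card := by
    apply Finset.sum_nbij' (fun K => I \ K) (fun M => I \ M)
    · intro K hK
      rw [Finset.mem_filter, Finset.mem_powerset] at hK
      rw [Finset.mem_powerset]
      exact Finset.sdiff_subset_sdiff (Finset.Subset.refl _) hK.2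
    · intro M hM
      rw [Finset.mem_powerset] at hM
      rw [Finset.mem_filter, Finset.mem_powerset]
      refine ⟨Finset.sdiff_subset, ?_⟩
      intro x hx
      rw [Finset.mem_sdiff]
      refine ⟨hL hx, fun hxM => ?_⟩
      exact (Finset.mem_sdiff.mp (hM hxM)).2 hx
    · intro K hK
      rw [Finset.mem_filter, Finset.mem_powerset] at hK
      exact Finset.sdiff_sdiff_eq_self hK.1
    · intro M hM
      rw [Finset.mem_powerset] at hM
      exact Finset.sdiff_sdiff_eq_self (hM.trans Finset.sdiff_subset)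
    · intro K hK
      rw [Finset.mem_filter, Finset.mem_powerset] at hK
      rw [Finset.card_sdiff_of_subset hK.1]
  rw [h1]
  have h2 := Finset.sum_powerset_neg_one_pow_card (x := I \ L)
  have h3 : (∑ M ∈ (I \ L).powerset, (-1 : ℂ) ^ M.card) =
      ((∑ M ∈ (I \ L).powerset, (-1 : ℤ) ^ M.card : ℤ) : ℂ) := by
    push_cast
    rfl
  rw [h3, h2]
  have h4 : I \ L = ∅ ↔ L = I := by
    rw [Finset.sdiff_eq_empty_iff_subset]
    exact ⟨fun h => Finset.Subset.antisymm hL h, fun h => h ▸ Finset.Subset.refl _⟩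
  by_cases h : L = I
  · rw [if_pos h, if_pos (h4.mpr h)]
    simp
  · rw [if_neg h, if_neg (fun h' => h (h4.mp h'))]
    simp

/-- Möbius inversion on the subsets of a finite set. -/
theorem h1_mobius (I : Finset ι) (f F : Finset ι → ℂ)
    (h : ∀ J, J ⊆ I → F J = ∑ K ∈ J.powerset, f K) :
    f I = ∑ K ∈ I.powerset, (-1 : ℂ) ^ (I.card - K.card) * F K := by
  have h1 : ∀ K ∈ I.powerset, (-1 : ℂ) ^ (I.card - K.card) * F K =
      ∑ L ∈ K.powerset, (-1 : ℂ) ^ (I.card - K.card) * f L := by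
    intro K hK
    rw [h K (Finset.mem_powerset.mp hK), Finset.mul_sum]
  rw [Finset.sum_congr rfl h1]
  rw [Finset.sum_comm' (t' := I.powerset) (s' := fun L => I.powerset.filter (fun K => L ⊆ K))]
  · have h2 : ∀ L ∈ I.powerset,
        ∑ K ∈ I.powerset.filter (fun K => L ⊆ K), (-1 : ℂ) ^ (I.card - K.card) * f L =
        (if L = I then 1 else 0) * f L := by
      intro L hL
      rw [← Finset.sum_mul, h1_interval_sum L I (Finset.mem_powerset.mp hL)]
    rw [Finset.sum_congr rfl h2, Finset.sum_eq_single I]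
    · rw [if_pos rfl, one_mul]
    · intro L _ hLI
      rw [if_neg hLI, zero_mul]
    · intro hI
      exact absurd (Finset.mem_powerset.mpr (Finset.Subset.refl I)) hI
  · intro K L
    rw [Finset.mem_powerset, Finset.mem_powerset, Finset.mem_filter, Finset.mem_powerset,
      Finset.mem_powerset]
    constructor
    · rintro ⟨hK, hL⟩
      exact ⟨⟨hK, hL⟩, hL.trans hK⟩
    · rintro ⟨⟨hK, hL⟩, _⟩
      exact ⟨hK, hL⟩


section count

variable {G : Type*} [Group G] [Finite G]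

theorem h1_neg_one_pow_mul (n k : ℕ) (hk : k ≤ n) :
    (-1 : ℂ) ^ n * (-1 : ℂ) ^ (n - k) = (-1 : ℂ) ^ k := by
  have h1 : (-1 : ℂ) ^ n = (-1 : ℂ) ^ (n - k) * (-1 : ℂ) ^ k := (pow_sub_mul_pow (-1 : ℂ) hk).symm
  have h2 : ((-1 : ℂ) ^ (n - k)) * ((-1 : ℂ) ^ (n - k)) = 1 := by
    rw [← pow_add, ← two_mul, pow_mul]
    simp
  rw [h1]
  calc (-1 : ℂ) ^ (n - k) * (-1 : ℂ) ^ k * (-1 : ℂ) ^ (n - k)
      = ((-1 : ℂ) ^ (n - k) * (-1 : ℂ) ^ (n - k)) * (-1 : ℂ) ^ k := by ring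
    _ = (-1 : ℂ) ^ k := by rw [h2, one_mul]

omit [DecidableEq ι] in
/-- Summing a relative alternating sum of permutation characters of the subgroup `par J` over a
conjugation-invariant set. -/
theorem h1_rel_sum (I : Finset ι) (par : Finset ι → Subgroup G)
    [∀ K, DecidablePred (fun g => g ∈ par K)]
    (hmono : ∀ K J, K ⊆ J → J ⊆ I → par K ≤ par J)
    (𝒰 : Finset G) (hinv : ∀ v ∈ 𝒰, ∀ x : G, x * v * x⁻¹ ∈ 𝒰)
    (J : Finset ι) (hJ : J ⊆ I) (𝒱 : Finset ↥(par J))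
    (h𝒱 : ∀ v : ↥(par J), v ∈ 𝒱 ↔ (v : G) ∈ 𝒰) :
    ∑ v ∈ 𝒱, (∑ K ∈ J.powerset, (-1 : ℂ) ^ K.card *
        Cfsg.fixedPointCharacter ((par K).subgroupOf (par J)) v) =
      ∑ K ∈ J.powerset, (-1 : ℂ) ^ K.card * (((par K).relIndex (par J) : ℕ) : ℂ) *
        (((𝒰.filter (fun g => g ∈ par K)).card : ℕ) : ℂ) := by
  classical
  rw [Finset.sum_comm]
  apply Finset.sum_congr rfl
  intro K hK
  rw [Finset.mem_powerset] at hK
  rw [← Finset.mul_sum, mul_assoc]
  congr 1
  have hinv' : ∀ v ∈ 𝒱, ∀ x : ↥(par J), x * v * x⁻¹ ∈ 𝒱 := by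
    intro v hv x
    rw [h𝒱] at hv ⊢
    exact hinv _ hv _
  rw [h1_sum_fpc ((par K).subgroupOf (par J)) 𝒱 hinv']
  congr 2
  apply Finset.card_bij (fun (v : ↥(par J)) _ => (v : G))
  · intro v hv
    rw [Finset.mem_filter] at hv ⊢
    exact ⟨(h𝒱 v).mp hv.1, Subgroup.mem_subgroupOf.mp hv.2⟩
  · intro v _ w _ hvw
    exact Subtype.ext hvw
  · intro g hg
    rw [Finset.mem_filter] at hg
    have hgJ : g ∈ par J := hmono K J hK hJ hg.2
    refine ⟨⟨g, hgJ⟩, ?_, rfl⟩
    rw [Finset.mem_filter]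
    exact ⟨(h𝒱 _).mpr hg.1, Subgroup.mem_subgroupOf.mpr hg.2⟩

omit [Finite G] in
/-- The count: if for every `J ⊆ I` the relative alternating sums add up to `c` over the
conjugation-invariant set `𝒰`, then `|𝒰| = c · ∑_K (−1)^|K| [G : par K]`. -/
theorem h1_unip_count (I : Finset ι) (par : Finset ι → Subgroup G)
    [∀ K, DecidablePred (fun g => g ∈ par K)]
    (hmono : ∀ K J, K ⊆ J → J ⊆ I → par K ≤ par J) (htop : par I = ⊤)
    (𝒰 : Finset G) (c : ℂ)
    (hrel : ∀ J, J ⊆ I →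
      ∑ K ∈ J.powerset, (-1 : ℂ) ^ K.card * (((par K).relIndex (par J) : ℕ) : ℂ) *
        (((𝒰.filter (fun g => g ∈ par K)).card : ℕ) : ℂ) = c) :
    ((𝒰.card : ℕ) : ℂ) = c * ∑ K ∈ I.powerset, (-1 : ℂ) ^ K.card * (((par K).index : ℕ) : ℂ) := by
  classical
  set f : Finset ι → ℂ := fun K => (-1 : ℂ) ^ K.card * (((par K).index : ℕ) : ℂ) *
    (((𝒰.filter (fun g => g ∈ par K)).card : ℕ) : ℂ) with hf
  set F : Finset ι → ℂ := fun J => c * (((par J).index : ℕ) : ℂ) with hF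
  have h1 : ∀ J, J ⊆ I → F J = ∑ K ∈ J.powerset, f K := by
    intro J hJ
    rw [hF, hf]
    change c * (((par J).index : ℕ) : ℂ) = _
    rw [← hrel J hJ, Finset.sum_mul]
    apply Finset.sum_congr rfl
    intro K hK
    rw [Finset.mem_powerset] at hK
    have h2 := Subgroup.relIndex_mul_index (hmono K J hK hJ)
    have h3 : (((par K).index : ℕ) : ℂ) =
        (((par K).relIndex (par J) : ℕ) : ℂ) * (((par J).index : ℕ) : ℂ) := by
      rw [← h2]
      push_cast
      rfl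
    beta_reduce
    rw [h3]
    ring
  have h4 := h1_mobius I f F h1
  have h5 : f I = (-1 : ℂ) ^ I.card * ((𝒰.card : ℕ) : ℂ) := by
    rw [hf]
    change (-1 : ℂ) ^ I.card * (((par I).index : ℕ) : ℂ) *
      (((𝒰.filter (fun g => g ∈ par I)).card : ℕ) : ℂ) = _
    have h7 : (par I).index = 1 := by rw [htop, Subgroup.index_top]
    have h8 : 𝒰.filter (fun g => g ∈ par I) = 𝒰 := by
      apply Finset.filter_true_of_mem
      intro g _
      rw [htop]
      exact Subgroup.mem_top g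
    rw [h7, h8, Nat.cast_one, mul_one]
  rw [h5] at h4
  have h6 : ((𝒰.card : ℕ) : ℂ) = (-1 : ℂ) ^ I.card * ((-1 : ℂ) ^ I.card * ((𝒰.card : ℕ) : ℂ)) := by
    rw [← mul_assoc, ← pow_add, ← two_mul, pow_mul]
    simp
  rw [h6, h4, Finset.mul_sum, Finset.mul_sum]
  apply Finset.sum_congr rfl
  intro K hK
  rw [Finset.mem_powerset] at hK
  rw [hF]
  change (-1 : ℂ) ^ I.card * ((-1 : ℂ) ^ (I.card - K.card) * (c * (((par K).index : ℕ) : ℂ))) = _
  rw [← mul_assoc, h1_neg_one_pow_mul _ _ (Finset.card_le_card hK)]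
  ring

end count

end Cfsg.Agent.UnipC
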