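import Mathlib
import Cfsg.Agent.UnipC.H1_Count

set_option autoImplicit false

/-!
# The sum of a relative Steinberg character over the `p`-elements of a parabolic (helper1)

Abstract form: `χ` a class function of a finite group `H` whose restriction to a subgroup `B'` is
the permutation character on `B'/A`; `U' ≤ B'` contains a conjugate of every `p`-element; `R ⊴ H`,
`R ≤ U'`, `R ≤ A`, and a conjugate (in `B'`) of `u ∈ U'` lies in `A` only if `u ∈ R`.  Then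
`∑_{v a p-element} χ v = [B' : A] · |R|`.
-/

namespace Cfsg.Agent.UnipC

open MulAction

/-- The value of a permutation character of `B'` on `B'/A` at an element all of whose conjugates
lie in `A`, resp. none of whose conjugates lies in `A`. -/
theorem h1_fpc_all {B' : Type*} [Group B'] [Finite B'] (A : Subgroup B') (u : B')
    (h : ∀ x : B', x⁻¹ * u * x ∈ A) : Cfsg.fixedPointCharacter A u = (A.index : ℂ) := by
  unfold Cfsg.fixedPointCharacter
  congr 1
  rw [Subgroup.index]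
  apply Nat.card_congr
  refine Equiv.subtypeUnivEquiv ?_
  intro c
  induction c using QuotientGroup.induction_on with
  | H x => exact (h1_smul_mk_eq_iff A u x).mpr (h x)

theorem h1_fpc_none {B' : Type*} [Group B'] (A : Subgroup B') (u : B')
    (h : ∀ x : B', x⁻¹ * u * x ∉ A) : Cfsg.fixedPointCharacter A u = 0 := by
  unfold Cfsg.fixedPointCharacter
  have : IsEmpty (fixedBy (B' ⧸ A) u) := by
    constructor
    rintro ⟨c, hc⟩
    induction c using QuotientGroup.induction_on with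
    | H x => exact h x ((h1_smul_mk_eq_iff A u x).mp hc)
  rw [Nat.card_of_isEmpty, Nat.cast_zero]

theorem h1_relSt_sum {H : Type*} [Group H] [Finite H] (p : ℕ) (B' U' R : Subgroup H)
    (A : Subgroup ↥B') (χ : H → ℂ)
    (hχ : ∀ x v : H, χ (x * v * x⁻¹) = χ v)
    (hχB : ∀ b : ↥B', χ (b : H) = Cfsg.fixedPointCharacter A b)
    (hU : ∀ v : H, (∃ k : ℕ, orderOf v = p ^ k) → ∃ x : H, x * v * x⁻¹ ∈ U')
    (hUB : U' ≤ B') (hR : R.Normal) (hRU : R ≤ U')
    (hRp : ∀ r ∈ R, ∃ k : ℕ, orderOf r = p ^ k)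
    (hA : ∀ u : ↥B', (u : H) ∈ U' → ∀ x : ↥B', x⁻¹ * u * x ∈ A → (u : H) ∈ R)
    (hRA : ∀ r : ↥B', (r : H) ∈ R → r ∈ A)
    (𝒱 : Finset H) (h𝒱 : ∀ v, v ∈ 𝒱 ↔ ∃ k : ℕ, orderOf v = p ^ k) :
    ∑ v ∈ 𝒱, χ v = (A.index : ℂ) * (Nat.card R : ℂ) := by
  classical
  have hin : ∀ v ∈ R, χ v = (A.index : ℂ) := by
    intro v hv
    have hvB : v ∈ B' := hUB (hRU hv)
    have h1 := hχB ⟨v, hvB⟩
    rw [h1]
    apply h1_fpc_all
    intro x
    apply hRA
    have h2 : ((x⁻¹ * ⟨v, hvB⟩ * x : ↥B') : H) = (x : H)⁻¹ * v * ((x : H)⁻¹)⁻¹ := by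
      rw [inv_inv]
      rfl
    rw [h2]
    exact hR.conj_mem v hv _
  have hout : ∀ v ∈ 𝒱, v ∉ R → χ v = 0 := by
    intro v hv hvR
    obtain ⟨x, hx⟩ := hU v ((h𝒱 v).mp hv)
    rw [← hχ x v]
    have huB : x * v * x⁻¹ ∈ B' := hUB hx
    have h1 := hχB ⟨x * v * x⁻¹, huB⟩
    rw [h1]
    apply h1_fpc_none
    intro y hy
    have h2 := hA ⟨x * v * x⁻¹, huB⟩ hx y hy
    apply hvR
    have h3 := hR.conj_mem _ h2 x⁻¹
    have h4 : x⁻¹ * (x * v * x⁻¹) * x⁻¹⁻¹ = v := by group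
    change x⁻¹ * (x * v * x⁻¹) * x⁻¹⁻¹ ∈ R at h3
    rwa [h4] at h3
  have hsplit : ∑ v ∈ 𝒱, χ v = ∑ v ∈ 𝒱.filter (fun v => v ∈ R), χ v := by
    rw [Finset.sum_filter]
    apply Finset.sum_congr rfl
    intro v hv
    by_cases hvR : v ∈ R
    · rw [if_pos hvR]
    · rw [if_neg hvR, hout v hv hvR]
  rw [hsplit, Finset.sum_congr rfl (fun v hv => hin v (Finset.mem_filter.mp hv).2),
    Finset.sum_const, nsmul_eq_mul, mul_comm]
  congr 2
  rw [← Nat.card_eq_finsetCard]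
  apply Nat.card_congr
  refine ⟨fun v => ⟨v.1, (Finset.mem_filter.mp v.2).2⟩,
    fun r => ⟨r.1, Finset.mem_filter.mpr ⟨(h𝒱 _).mpr (hRp r.1 r.2), r.2⟩⟩, ?_, ?_⟩
  · intro v
    rfl
  · intro r
    rfl

end Cfsg.Agent.UnipC
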