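import Mathlib
import Cfsg.Agent.UnipC.H1_RelSum
import Cfsg.Agent.ChevUni.L_ParMain
import Cfsg.Agent.Helper6.CharBasic

set_option autoImplicit false

/-!
# Steinberg's count of the `p`-elements in a finite group with a split `(B, N)`-pair (helper1)

Abstract form of `S2314`: `G` finite with a `(B, N)`-pair, `U ⊴ B` a Sylow `p`-subgroup of `G` with
`B = U ⋊ (B ∩ N)`, and for every set `K` of generators a subgroup `R K ≤ U` normalised by `P_K` such
that `U ∩ n0 B n0⁻¹ ≤ R K` for every `n0 ∈ ⟨K⟩ (B ∩ N)` which no generator of `K` lengthens.  Then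
the number of `p`-elements is `|U| · St(1)`.
-/

namespace Cfsg.Agent.UnipC

open Cfsg Cfsg.Agent.Helper7.BN Cfsg.Agent.Lead.SteinChar Cfsg.Agent.Lead.SteinBN
  Cfsg.Agent.ChevUni
open scoped Pointwise

universe u

/-- The index of a subgroup of a subgroup, computed in an ambient group. -/
theorem h1b_index_comap {H G₀ : Type*} [Group H] [Group G₀] (φ : H →* G₀) (B' : Subgroup H)
    (Q : Subgroup ↥B') (X Bo : Subgroup G₀)
    (hB' : ∀ x : H, x ∈ B' ↔ φ x ∈ Bo) (hBo : Bo ≤ φ.range)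
    (hQ : ∀ b : ↥B', b ∈ Q ↔ φ (b : H) ∈ X) : Q.index = X.relIndex Bo := by
  have h1 : Q = X.comap (φ.comp B'.subtype) := by
    ext b
    rw [hQ b]
    rfl
  have h2 : (φ.comp B'.subtype).range = Bo := by
    ext g
    constructor
    · rintro ⟨b, rfl⟩
      exact (hB' b).mp b.2
    · intro hg
      obtain ⟨x, rfl⟩ := hBo hg
      exact ⟨⟨x, (hB' x).mpr hg⟩, rfl⟩
  rw [h1, Subgroup.index_comap, h2]

/-- A `p`-element of a finite group is conjugate into any given Sylow `p`-subgroup. -/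
theorem h1b_conj_mem_sylow {H : Type*} [Group H] [Finite H] (p : ℕ) [Fact p.Prime]
    (S : Sylow p H) (v : H) (hv : ∃ k : ℕ, orderOf v = p ^ k) :
    ∃ x : H, x * v * x⁻¹ ∈ (S : Subgroup H) := by
  obtain ⟨k, hk⟩ := hv
  have hz : IsPGroup p (Subgroup.zpowers v) := by
    apply IsPGroup.of_card (n := k)
    rw [Nat.card_zpowers, hk]
  obtain ⟨Q, hQ⟩ := hz.exists_le_sylow
  obtain ⟨x, hx⟩ := MulAction.exists_smul_eq H Q S
  refine ⟨x, ?_⟩
  have hvQ : v ∈ (Q : Subgroup H) := hQ (Subgroup.mem_zpowers v)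
  have h1 : MulAut.conj x • v ∈ MulAut.conj x • (Q : Subgroup H) :=
    Subgroup.smul_mem_pointwise_smul _ _ _ hvQ
  rw [← hx]
  rw [Sylow.coe_subgroup_smul]
  simpa [MulAut.smul_def] using h1

/-- The order of `A H` for `H` normalising `A` with `A ∩ H = 1`. -/
theorem h1b_card_sup {G : Type*} [Group G] (A H : Subgroup G)
    (hN : H ≤ Subgroup.normalizer (A : Set G)) (hinf : A ⊓ H = ⊥) :
    Nat.card ↥(A ⊔ H) = Nat.card A * Nat.card H := by
  have hmul := Subgroup.coe_mul_of_right_le_normalizer_left A H hN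
  let Φ : ↥A × ↥H → ↥(A ⊔ H) := fun q =>
    ⟨(q.1 : G) * (q.2 : G), mul_mem (Subgroup.mem_sup_left q.1.2) (Subgroup.mem_sup_right q.2.2)⟩
  have hinj : Function.Injective Φ := by
    rintro ⟨⟨u, hu⟩, ⟨h, hh⟩⟩ ⟨⟨u', hu'⟩, ⟨h', hh'⟩⟩ e
    have e' : u * h = u' * h' := congrArg (fun x : ↥(A ⊔ H) => (x : G)) e
    have hmem : u'⁻¹ * u ∈ A ⊓ H := by
      refine Subgroup.mem_inf.mpr ⟨mul_mem (inv_mem hu') hu, ?_⟩
      have : u'⁻¹ * u = h' * h⁻¹ := by
        calc u'⁻¹ * u = u'⁻¹ * (u * h) * h⁻¹ := by group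
          _ = u'⁻¹ * (u' * h') * h⁻¹ := by rw [e']
          _ = _ := by group
      rw [this]
      exact mul_mem hh' (inv_mem hh)
    rw [hinf, Subgroup.mem_bot] at hmem
    have huu : u = u' := (inv_mul_eq_one.mp hmem).symm
    subst huu
    have hhh : h = h' := mul_left_cancel e'
    subst hhh
    rfl
  have hsurj : Function.Surjective Φ := by
    rintro ⟨b, hb⟩
    have : b ∈ (A : Set G) * (H : Set G) := by
      rw [← hmul]; exact hb
    obtain ⟨u, hu, h, hh, rfl⟩ := this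
    exact ⟨⟨⟨u, hu⟩, ⟨h, hh⟩⟩, rfl⟩
  rw [← Nat.card_congr (Equiv.ofBijective Φ ⟨hinj, hsurj⟩), Nat.card_prod]

/-- A subgroup whose elements conjugate `A` into itself normalises `A`. -/
theorem h1b_le_normalizer {G : Type*} [Group G] (A X : Subgroup G)
    (h : ∀ x ∈ X, ∀ a ∈ A, x * a * x⁻¹ ∈ A) : X ≤ Subgroup.normalizer (A : Set G) := by
  intro x hx
  rw [Subgroup.mem_set_normalizer_iff]
  intro n
  constructor
  · exact h x hx n
  · intro hn
    have := h x⁻¹ (inv_mem hx) _ hn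
    have e : x⁻¹ * (x * n * x⁻¹) * x⁻¹⁻¹ = n := by group
    rwa [e] at this

section main

variable {G : Type u} [Group G] [Fintype G] (P : Cfsg.BNPair G)
variable {ι : Type*} [DecidableEq ι] {I : Finset ι} {s : ι → G}

/-- The class sum of the relative Steinberg character of `P_K` over the `p`-elements of `P_K`. -/
theorem h1b_rel (himg : s '' (I : Set ι) = P.S) (p : ℕ) [Fact p.Prime] (U : Subgroup G)
    (S : Sylow p G) (hS : (S : Subgroup G) = U) (hUB : U ≤ P.B)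
    (hUn : ∀ b ∈ P.B, ∀ u ∈ U, b * u * b⁻¹ ∈ U)
    (hUH : U ⊓ (P.B ⊓ P.N) = ⊥)
    (hBUH : ∀ b ∈ P.B, ∃ u ∈ U, ∃ h ∈ P.B ⊓ P.N, b = u * h)
    {K : Finset ι} (hK : K ⊆ I) (R : Subgroup G) (hRU : R ≤ U)
    (hRn : ∀ x ∈ P.parabolic (l_J s K), ∀ r ∈ R, x * r * x⁻¹ ∈ R)
    (hT : ∀ n0 ∈ l_NJ P (l_J s K),
      (∀ i ∈ K, ∃ b ∈ P.B, s i * b * n0 ∉ C P (s i * n0)) →
        ∀ u ∈ U, n0⁻¹ * u * n0 ∈ P.B → u ∈ R)
    (𝒱 : Finset ↥(P.parabolic (l_J s K)))
    (h𝒱 : ∀ v, v ∈ 𝒱 ↔ ∃ k : ℕ, orderOf v = p ^ k) :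
    ∑ v ∈ 𝒱, ∑ L ∈ K.powerset, (-1 : ℂ) ^ L.card *
      Cfsg.fixedPointCharacter
        ((P.parabolic (l_J s L)).subgroupOf (P.parabolic (l_J s K))) v =
      (Nat.card U : ℂ) := by
  classical
  obtain ⟨n0, hn0, -, hasc, Q, hQ, hval⟩ := l_main P himg hK
  have hTn := hT n0 hn0 hasc
  have hBH : P.B ≤ l_H P s K := l_B_le_par P _
  have hn0H : n0 ∈ l_H P s K := l_NJ_le_par P _ hn0
  have hn0N : n0 ∈ P.N := l_NJ_le_N P (l_J_subset P himg hK) hn0
  set U' : Subgroup ↥(l_H P s K) := U.subgroupOf (l_H P s K) with hU'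
  set R' : Subgroup ↥(l_H P s K) := R.subgroupOf (l_H P s K) with hR'
  have hmemB : ∀ x : ↥(l_H P s K), x ∈ (l_P' P himg hK).B ↔ (x : G) ∈ P.B := fun x => Iff.rfl
  -- Sylow
  have hSle : (S : Subgroup G) ≤ l_H P s K := by
    rw [hS]
    exact hUB.trans hBH
  have hS' : ∀ x : ↥(l_H P s K), x ∈ ((S.subtype hSle : Sylow p ↥(l_H P s K)) :
      Subgroup ↥(l_H P s K)) ↔ x ∈ U' := by
    intro x
    rw [Sylow.coe_subtype, hS]
  have hU : ∀ v : ↥(l_H P s K), (∃ k : ℕ, orderOf v = p ^ k) →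
      ∃ x : ↥(l_H P s K), x * v * x⁻¹ ∈ U' := by
    intro v hv
    obtain ⟨x, hx⟩ := h1b_conj_mem_sylow p (S.subtype hSle) v hv
    exact ⟨x, (hS' _).mp hx⟩
  have hUB' : U' ≤ (l_P' P himg hK).B := by
    intro x hx
    exact (hmemB x).mpr (hUB (Subgroup.mem_subgroupOf.mp hx))
  have hRn' : R'.Normal := by
    constructor
    intro r hr x
    rw [hR', Subgroup.mem_subgroupOf] at hr ⊢
    exact hRn (x : G) x.2 _ hr
  have hRU' : R' ≤ U' := Subgroup.comap_mono hRU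
  have hRp : ∀ r ∈ R', ∃ k : ℕ, orderOf r = p ^ k := by
    intro r hr
    have hrS : r ∈ ((S.subtype hSle : Sylow p ↥(l_H P s K)) : Subgroup ↥(l_H P s K)) :=
      (hS' r).mpr (hRU' hr)
    have hpg := (S.subtype hSle).isPGroup'
    obtain ⟨k, hk⟩ := (IsPGroup.iff_orderOf.mp hpg) ⟨r, hrS⟩
    refine ⟨k, ?_⟩
    rw [← hk]
    exact (Subgroup.orderOf_mk r hrS).symm
  have hA : ∀ u : ↥(l_P' P himg hK).B, (u : ↥(l_H P s K)) ∈ U' →
      ∀ x : ↥(l_P' P himg hK).B, x⁻¹ * u * x ∈ Q → (u : ↥(l_H P s K)) ∈ R' := by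
    intro u hu x hx
    rw [hQ] at hx
    have hxB : ((x : ↥(l_H P s K)) : G) ∈ P.B := (hmemB _).mp x.2
    have huU : ((u : ↥(l_H P s K)) : G) ∈ U := Subgroup.mem_subgroupOf.mp hu
    have h1 : (((x⁻¹ * u * x : ↥(l_P' P himg hK).B) : ↥(l_H P s K)) : G) =
        ((x : ↥(l_H P s K)) : G)⁻¹ * ((u : ↥(l_H P s K)) : G) * ((x : ↥(l_H P s K)) : G) := by
      simp
    rw [h1] at hx
    have h2 : ((x : ↥(l_H P s K)) : G)⁻¹ * ((u : ↥(l_H P s K)) : G) *
        ((x : ↥(l_H P s K)) : G) ∈ U := by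
      have := hUn _ (inv_mem hxB) _ huU
      rwa [inv_inv] at this
    have h3 := hTn _ h2 hx
    have h4 := hRn _ (hBH hxB) _ h3
    have e : ((x : ↥(l_H P s K)) : G) * (((x : ↥(l_H P s K)) : G)⁻¹ *
        ((u : ↥(l_H P s K)) : G) * ((x : ↥(l_H P s K)) : G)) * ((x : ↥(l_H P s K)) : G)⁻¹ =
        ((u : ↥(l_H P s K)) : G) := by group
    rw [e] at h4
    exact Subgroup.mem_subgroupOf.mpr h4
  have hRconj : ∀ r ∈ R, n0⁻¹ * r * n0 ∈ R := by
    intro r hr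
    have := hRn _ (inv_mem hn0H) _ hr
    rwa [inv_inv] at this
  have hRA : ∀ r : ↥(l_P' P himg hK).B, (r : ↥(l_H P s K)) ∈ R' → r ∈ Q := by
    intro r hr
    rw [hQ]
    exact hUB (hRU (hRconj _ (Subgroup.mem_subgroupOf.mp hr)))
  have hcf := Cfsg.Agent.Helper6.IsCharacter.isClassFunction
    (Cfsg.Agent.Helper6.IsIrrCharacter.isCharacter (l_chi_irr P himg hK))
  have key := h1_relSt_sum p (l_P' P himg hK).B U' R' Q (l_chi P himg hK)
    (fun x v => hcf v x) hval hU hUB' hRn' hRU' hRp hA hRA 𝒱 h𝒱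
  have hsum : ∑ v ∈ 𝒱, ∑ L ∈ K.powerset, (-1 : ℂ) ^ L.card *
      Cfsg.fixedPointCharacter ((P.parabolic (l_J s L)).subgroupOf (l_H P s K)) v =
      ∑ v ∈ 𝒱, l_chi P himg hK v :=
    Finset.sum_congr rfl (fun v _ => (l_chi_apply P himg hK v).symm)
  rw [hsum, key]
  -- numerics
  set Hs : Subgroup G := P.B ⊓ P.N with hHs
  set Qg : Subgroup G := P.B ⊓ P.B.comap (MulAut.conj n0⁻¹).toMonoidHom with hQgdef
  have hQg : ∀ b : G, b ∈ Qg ↔ b ∈ P.B ∧ n0⁻¹ * b * n0 ∈ P.B := by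
    intro b
    simp [hQgdef, Subgroup.mem_inf, Subgroup.mem_comap]
  have hidx : Q.index = Qg.relIndex P.B := by
    refine h1b_index_comap (l_H P s K).subtype (l_P' P himg hK).B Q Qg P.B (fun x => Iff.rfl)
      ?_ ?_
    · rw [Subgroup.range_subtype]
      exact hBH
    · intro b
      rw [hQ b]
      change _ ↔ (((b : ↥(l_H P s K)) : G)) ∈ Qg
      rw [hQg]
      exact ⟨fun h => ⟨(hmemB _).mp b.2, h⟩, fun h => h.2⟩
  have hcardR : Nat.card R' = Nat.card R :=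
    Nat.card_congr (Subgroup.subgroupOfEquivOfLe ((hRU.trans hUB).trans hBH)).toEquiv
  have hHsB : Hs ≤ P.B := inf_le_left
  have hHsU : Hs ≤ Subgroup.normalizer (U : Set G) :=
    h1b_le_normalizer U Hs (fun x hx a ha => hUn x (hHsB hx) a ha)
  have hHsR : Hs ≤ Subgroup.normalizer (R : Set G) :=
    h1b_le_normalizer R Hs (fun x hx a ha => hRn x (hBH (hHsB hx)) a ha)
  have hBeq : U ⊔ Hs = P.B := by
    apply le_antisymm (sup_le hUB hHsB)
    intro b hb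
    obtain ⟨u, hu, h, hh, rfl⟩ := hBUH b hb
    exact mul_mem (Subgroup.mem_sup_left hu) (Subgroup.mem_sup_right hh)
  have hBcard : Nat.card P.B = Nat.card U * Nat.card Hs := by
    rw [← h1b_card_sup U Hs hHsU hUH, hBeq]
  have hHsQ : Hs ≤ Qg := by
    intro h hh
    rw [hQg]
    refine ⟨hHsB hh, ?_⟩
    have := P.conj_mem n0⁻¹ (inv_mem hn0N) h hh
    rwa [inv_inv] at this
  have hRQ : R ≤ Qg := by
    intro r hr
    rw [hQg]
    exact ⟨hUB (hRU hr), hUB (hRU (hRconj r hr))⟩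
  have hQgeq : Qg = R ⊔ Hs := by
    apply le_antisymm
    · intro b hb
      have hbB := ((hQg b).mp hb).1
      obtain ⟨u, hu, h, hh, rfl⟩ := hBUH b hbB
      have huQ : u ∈ Qg := by
        have : u = u * h * h⁻¹ := by group
        rw [this]
        exact mul_mem hb (inv_mem (hHsQ hh))
      have huR := hTn u hu ((hQg u).mp huQ).2
      exact mul_mem (Subgroup.mem_sup_left huR) (Subgroup.mem_sup_right hh)
    · exact sup_le hRQ hHsQ
  have hRHs : R ⊓ Hs = ⊥ := by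
    rw [eq_bot_iff, ← hUH]
    exact inf_le_inf_right _ hRU
  have hQgcard : Nat.card Qg = Nat.card R * Nat.card Hs := by
    rw [hQgeq, h1b_card_sup R Hs hHsR hRHs]
  have hQgB : Qg ≤ P.B := inf_le_left
  have hrel : Qg.relIndex P.B * Nat.card Qg = Nat.card P.B := by
    rw [Subgroup.relIndex, ← Nat.card_congr (Subgroup.subgroupOfEquivOfLe hQgB).toEquiv]
    exact Subgroup.index_mul_card _
  rw [hQgcard, hBcard, ← mul_assoc] at hrel
  have hfin := Nat.eq_of_mul_eq_mul_right Nat.card_pos hrel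
  rw [hidx, hcardR]
  exact_mod_cast congrArg (Nat.cast : ℕ → ℂ) hfin

/-- Steinberg's count of the `p`-elements of a finite group with a split `(B, N)`-pair:
`|U| · St(1)`. -/
theorem h1b_unip_count (himg : s '' (I : Set ι) = P.S) (p : ℕ) [Fact p.Prime] (U : Subgroup G)
    (S : Sylow p G) (hS : (S : Subgroup G) = U) (hUB : U ≤ P.B)
    (hUn : ∀ b ∈ P.B, ∀ u ∈ U, b * u * b⁻¹ ∈ U)
    (hUH : U ⊓ (P.B ⊓ P.N) = ⊥)
    (hBUH : ∀ b ∈ P.B, ∃ u ∈ U, ∃ h ∈ P.B ⊓ P.N, b = u * h)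
    (R : Finset ι → Subgroup G) (hRU : ∀ K, K ⊆ I → R K ≤ U)
    (hRn : ∀ K, K ⊆ I → ∀ x ∈ P.parabolic (l_J s K), ∀ r ∈ R K, x * r * x⁻¹ ∈ R K)
    (hT : ∀ K, K ⊆ I → ∀ n0 ∈ l_NJ P (l_J s K),
      (∀ i ∈ K, ∃ b ∈ P.B, s i * b * n0 ∉ C P (s i * n0)) →
        ∀ u ∈ U, n0⁻¹ * u * n0 ∈ P.B → u ∈ R K) :
    (Nat.card {g : G // ∃ k : ℕ, orderOf g = p ^ k} : ℂ) =
      (Nat.card U : ℂ) * St I (fun K => P.parabolic (l_J s K)) 1 := by
  classical
  set par : Finset ι → Subgroup G := fun K => P.parabolic (l_J s K) with hpar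
  set 𝒰 : Finset G := Finset.univ.filter (fun g => ∃ k : ℕ, orderOf g = p ^ k) with h𝒰
  have hinv : ∀ v ∈ 𝒰, ∀ x : G, x * v * x⁻¹ ∈ 𝒰 := by
    intro v hv x
    rw [h𝒰, Finset.mem_filter] at hv ⊢
    refine ⟨Finset.mem_univ _, ?_⟩
    have hsc : SemiconjBy x v (x * v * x⁻¹) := by
      unfold SemiconjBy
      group
    rw [← hsc.orderOf_eq]
    exact hv.2
  have hmono : ∀ K J : Finset ι, K ⊆ J → J ⊆ I → par K ≤ par J := by
    intro K J hKJ _
    exact parabolic_mono P (Set.image_mono (Finset.coe_subset.mpr hKJ))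
  have htop : par I = ⊤ := by
    change P.B ⊔ Subgroup.closure (s '' (I : Set ι)) = ⊤
    rw [himg, eq_top_iff, ← P.sup_eq_top, ← P.closure_sup]
    refine sup_le le_sup_left (sup_le le_sup_right (inf_le_left.trans le_sup_left))
  have hrel : ∀ J, J ⊆ I →
      ∑ K ∈ J.powerset, (-1 : ℂ) ^ K.card *
        ((((par K).relIndex (par J) : ℕ) : ℂ)) *
        (((𝒰.filter (fun g => g ∈ par K)).card : ℕ) : ℂ) = (Nat.card U : ℂ) := by
    intro J hJ
    let _ : Fintype ↥(par J) := Fintype.ofFinite _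
    set 𝒱 : Finset ↥(par J) :=
      Finset.univ.filter (fun v => (v : G) ∈ 𝒰) with h𝒱def
    have h𝒱 : ∀ v : ↥(par J), v ∈ 𝒱 ↔ (v : G) ∈ 𝒰 := by
      intro v
      rw [h𝒱def, Finset.mem_filter]
      exact ⟨fun h => h.2, fun h => ⟨Finset.mem_univ _, h⟩⟩
    rw [← h1_rel_sum I par hmono 𝒰 hinv J hJ 𝒱 h𝒱]
    refine h1b_rel P himg p U S hS hUB hUn hUH hBUH hJ (R J) (hRU J hJ) (hRn J hJ) (hT J hJ)
      𝒱 ?_
    intro v
    rw [h𝒱, h𝒰, Finset.mem_filter, Subgroup.orderOf_coe]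
    exact ⟨fun h => h.2, fun h => ⟨Finset.mem_univ _, h⟩⟩
  have key := h1_unip_count I par hmono htop 𝒰 _ hrel
  have hst : St I par 1 = ∑ K ∈ I.powerset, (-1 : ℂ) ^ K.card * (((par K).index : ℕ) : ℂ) := by
    unfold St
    apply Finset.sum_congr rfl
    intro K _
    rw [fixedPointCharacter_one]
  have hcard : Nat.card {g : G // ∃ k : ℕ, orderOf g = p ^ k} = 𝒰.card := by
    rw [Nat.card_eq_fintype_card, Fintype.card_subtype]
  rw [hcard, hst, key]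

end main

end Cfsg.Agent.UnipC
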